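import Groth.Agent.L16.ZeroCyc.Twist
import Mathlib.RingTheory.LocalRing.ResidueField.Ideal
import Mathlib.RingTheory.Localization.Integer
import Mathlib.RingTheory.Finiteness.Basic
import Mathlib.SetTheory.Cardinal.Finite

/-!
A degree-one element avoiding finitely many points over one prime with large residue field.
-/

set_option autoImplicit false
universe u

open CategoryTheory AlgebraicGeometry

noncomputable section

namespace Groth.L16.ZeroCyc

/-- At most `#K` proper subspaces do not cover. -/
theorem exists_forall_notMem {K : Type u} [Field K] {M : Type*} [AddCommGroup M] [Module K M] {ι : Type*}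
    (p : ι → Submodule K M) (hp : ∀ i, p i ≠ ⊤) (s : Finset ι) (hs : (s.card : Cardinal) ≤ Cardinal.mk K) :
    ∃ x, ∀ i ∈ s, x ∉ p i := by
  classical
  induction s using Finset.induction_on with
  | empty => exact ⟨0, by simp⟩
  | insert j s hj ih =>
    rw [Finset.card_insert_of_notMem hj] at hs
    obtain ⟨y, hy⟩ := ih (le_trans (by exact_mod_cast Nat.le_succ _) hs)
    by_cases hyj : y ∈ p j
    swap
    · exact ⟨y, Finset.forall_mem_insert _ _ _ |>.2 ⟨hyj, hy⟩⟩
    obtain ⟨z, -, hz⟩ := SetLike.exists_of_lt (lt_top_iff_ne_top.2 (hp j))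
    let T : ι → K := fun i => if h : ∃ t : K, z + t • y ∈ p i then h.choose else 0
    obtain ⟨t, ht⟩ : ∃ t, t ∉ s.image T := by
      by_contra hc
      push Not at hc
      have h1 : Cardinal.mk K ≤ ((s.image T).card : Cardinal) := by
        rw [← Cardinal.mk_coe_finset, ← Cardinal.mk_univ]
        exact Cardinal.mk_le_mk_of_subset fun x _ => hc x
      have h2 : ((s.card + 1 : ℕ) : Cardinal) ≤ ((s.image T).card : Cardinal) := hs.trans h1
      have h3 := Finset.card_image_le (s := s) (f := T)
      have h4 : s.card + 1 ≤ (s.image T).card := by exact_mod_cast h2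
      omega
    refine ⟨z + t • y, (Finset.forall_mem_insert _ _ _).2 ⟨fun h => hz ?_, fun i hi h => ?_⟩⟩
    · simpa using sub_mem h ((p j).smul_mem t hyj)
    · have hex : ∃ t' : K, z + t' • y ∈ p i := ⟨t, h⟩
      have hT : z + T i • y ∈ p i := by simp only [T, dif_pos hex]; exact hex.choose_spec
      have hne : t - T i ≠ 0 := sub_ne_zero.2 fun e => ht (Finset.mem_image.2 ⟨i, hi, e.symm⟩)
      have hd : (t - T i) • y ∈ p i := by
        have := sub_mem h hT
        rwa [add_sub_add_left_eq_sub, ← sub_smul] at this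
      exact hy i hi (((p i).smul_mem_iff hne).1 hd)

variable {R A : Type u} [CommRing R] [CommRing A] [Algebra R A] {𝒜 : ℕ → Submodule R A} [GradedAlgebra 𝒜]

theorem exists_mem_one_avoid (hgen : Algebra.adjoin R (𝒜 1 : Set A) = ⊤) (hfg : (𝒜 1).FG)
    (p : Ideal R) [p.IsPrime] {d : ℕ} (x : Fin d → Proj 𝒜)
    (hx : ∀ i, ((x i).asHomogeneousIdeal.toIdeal).comap (algebraMap R A) = p)
    (hcard : (d : Cardinal) ≤ Cardinal.mk p.ResidueField) :
    ∃ g ∈ 𝒜 1, ∀ i, x i ∈ Proj.basicOpen 𝒜 g := by
  classical
  obtain ⟨m, e, he⟩ := Submodule.fg_iff_exists_fin_generating_family.1 hfg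
  have hemem : ∀ j, e j ∈ 𝒜 1 := fun j => he ▸ Submodule.subset_span ⟨j, rfl⟩
  have hgen' : Algebra.adjoin R (Set.range e) = ⊤ := by
    rw [← Algebra.adjoin_span, he, hgen]
  haveI : ∀ i, ((x i).asHomogeneousIdeal.toIdeal).IsPrime := fun i => (x i).isPrime
  let L : Fin d → Type u := fun i => FractionRing (A ⧸ (x i).asHomogeneousIdeal.toIdeal)
  let π : ∀ i, A →+* L i := fun i => (algebraMap (A ⧸ (x i).asHomogeneousIdeal.toIdeal) (L i)).comp
    (Ideal.Quotient.mk (x i).asHomogeneousIdeal.toIdeal)
  have hπ : ∀ (i) (a : A), π i a = 0 ↔ a ∈ (x i).asHomogeneousIdeal.toIdeal := fun i a => by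
    rw [← Ideal.Quotient.eq_zero_iff_mem]
    exact map_eq_zero_iff _ (IsFractionRing.injective (A ⧸ (x i).asHomogeneousIdeal.toIdeal) (L i))
  let φ : ∀ i, p.ResidueField →+* L i := fun i =>
    Ideal.ResidueField.lift p ((π i).comp (algebraMap R A))
      (fun r hr => by rw [RingHom.mem_ker, RingHom.comp_apply, hπ]; rwa [← hx i] at hr)
      (fun r hr => by
        refine isUnit_iff_ne_zero.2 fun h => hr ?_
        rw [RingHom.comp_apply, hπ] at h
        rw [← hx i]
        exact h)
  let F : ∀ i, (Fin m → p.ResidueField) → L i := fun i v => ∑ j, φ i (v j) * π i (e j)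
  let P : Fin d → Submodule p.ResidueField (Fin m → p.ResidueField) := fun i =>
    { carrier := {v | F i v = 0}
      zero_mem' := by simp [F]
      add_mem' := fun {v w} hv hw => by
        have : F i (v + w) = F i v + F i w := by simp [F, add_mul, Finset.sum_add_distrib]
        exact this.trans (by rw [show F i v = 0 from hv, show F i w = 0 from hw, add_zero])
      smul_mem' := fun c v hv => by
        have : F i (c • v) = φ i c * F i v := by simp [F, Finset.mul_sum, mul_assoc]
        exact this.trans (by rw [show F i v = 0 from hv, mul_zero]) }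
  have hP : ∀ i, P i ≠ ⊤ := fun i h => by
    obtain ⟨j, hj⟩ := exists_notMem (deg := fun _ => 1) hemem hgen' (x i)
    have : F i (Pi.single j 1) = 0 := (h.ge (Submodule.mem_top (x := Pi.single j 1)) :)
    refine hj ((hπ i _).1 ?_)
    refine Eq.trans ?_ this
    simp only [F]
    rw [Finset.sum_eq_single j (fun j' _ hne => by rw [Pi.single_eq_of_ne hne, map_zero, zero_mul])
      (fun h => absurd (Finset.mem_univ j) h), Pi.single_eq_same, map_one, one_mul]
  obtain ⟨v, hv⟩ := exists_forall_notMem P hP Finset.univ (by simpa using hcard)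
  obtain ⟨⟨b, hb⟩, hbv⟩ :=
    IsLocalization.exist_integer_multiples_of_finite (nonZeroDivisors (R ⧸ p)) v
  have hr : ∀ j, ∃ r : R, algebraMap R p.ResidueField r = algebraMap (R ⧸ p) p.ResidueField b * v j := fun j => by
    obtain ⟨c, hc⟩ := hbv j
    obtain ⟨r, rfl⟩ := Ideal.Quotient.mk_surjective c
    exact ⟨r, by rw [Ideal.algebraMap_quotient_residueField_mk] at hc; rw [hc, Algebra.smul_def]⟩
  choose r hr using hr
  refine ⟨∑ j, r j • e j, Submodule.sum_mem _ fun j _ => Submodule.smul_mem _ _ (hemem j), fun i => ?_⟩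
  rw [Proj.mem_basicOpen]
  intro hmem
  have h0 : π i (∑ j, r j • e j) = 0 := (hπ i _).2 hmem
  have h1 : φ i (algebraMap (R ⧸ p) p.ResidueField b) * F i v = 0 := by
    rw [← h0, map_sum]
    show φ i (algebraMap (R ⧸ p) p.ResidueField b) * (∑ j, φ i (v j) * π i (e j)) = _
    rw [Finset.mul_sum]
    refine Finset.sum_congr rfl fun j _ => ?_
    rw [← mul_assoc, ← map_mul, ← hr, Algebra.smul_def, map_mul]
    simp only [φ, Ideal.ResidueField.lift_algebraMap, RingHom.comp_apply]
  rcases mul_eq_zero.1 h1 with h | h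
  · exact (map_ne_zero_iff _ (φ i).injective).2 ((map_ne_zero_iff _ p.injective_algebraMap_quotient_residueField).2
      (nonZeroDivisors.ne_zero hb)) h
  · exact hv i (Finset.mem_univ i) h

end Groth.L16.ZeroCyc
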