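import Groth.Agent.L16.ZeroCyc.Twist
import Groth.Agent.L16.TwistConePull
import Groth.Agent.L16.ProjSpace.Basic
import Groth.Agent.L18.VeryAmpleOver
import Mathlib.AlgebraicGeometry.ProjectiveSpectrum.Proper
import Mathlib.AlgebraicGeometry.Morphisms.Proper

/-!
A closed immersion of `Proj` into a projective space by the sections of one degree.
-/

set_option autoImplicit false
set_option linter.style.haveILetI false
universe u

open CategoryTheory CategoryTheory.Limits AlgebraicGeometry TopologicalSpace Opposite HomogeneousLocalization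
open Groth.L18.Frame (rs ro rs_rs rs_self IsFrame)

noncomputable section

namespace Groth.L16.ZeroCyc

variable {R A : Type u} [CommRing R] [CommRing A] [Algebra R A] {𝒜 : ℕ → Submodule R A} [GradedAlgebra 𝒜]
  {n : ℕ}

/-- The global section `b / 1`. -/
abbrev gl (b : 𝒜 n) : Γ(Twist.twist 𝒜 (n : ℤ), ⊤) := Twist.globalOf 𝒜 b

/-- `c / β ^ k` on `D₊(β)`. -/
def frac (β : 𝒜 n) (k : ℕ) (c : A) (hc : c ∈ 𝒜 (k • n)) : Γ(Proj 𝒜, Proj.basicOpen 𝒜 (β : A)) :=
  Proj.awayToSection 𝒜 (β : A) (Away.mk 𝒜 β.2 k c hc)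

theorem isInvertible_twist (hcov : ∀ x : Proj 𝒜, ∃ b : 𝒜 n, (b : A) ∉ x.asHomogeneousIdeal) :
    PicF.IsInvertible (Twist.twist 𝒜 (n : ℤ)) := fun x => by
  obtain ⟨b, hb⟩ := hcov x
  exact ⟨Proj.basicOpen 𝒜 (b : A), hb,
    Groth.L21.Extend.exists_iso_of_isGen _ (isFrame_globalOf b _ le_rfl)⟩

/-- A frame `b / 1` forces `b` to be invertible. -/
theorem le_basicOpen_of_isFrame (hcov : ∀ x : Proj 𝒜, ∃ g : 𝒜 n, (g : A) ∉ x.asHomogeneousIdeal) (b : 𝒜 n)
    (W : (Proj 𝒜).Opens) (hW : IsFrame (Twist.twist 𝒜 (n : ℤ)) W (rs (Twist.twist 𝒜 (n : ℤ)) le_top (gl b))) :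
    W ≤ Proj.basicOpen 𝒜 (b : A) := by
  intro x hx
  obtain ⟨g, hg⟩ := hcov x
  obtain ⟨c, hc⟩ := hW.exists_coeff le_rfl (rs (Twist.twist 𝒜 (n : ℤ)) le_top (gl g))
  rw [rs_rs] at hc
  let c' : Twist.O (𝒜 := 𝒜) (op W) := c
  have h1 : (c'.1 ⟨x, hx⟩).val * (Localization.mk (b : A) 1 : Twist.Loc 𝒜 x) = Localization.mk (g : A) 1 := by
    refine Eq.trans ?_ (congrArg (fun s : Twist.sectN (𝒜 := 𝒜) (n : ℤ) (op W) => (s.1 ⟨x, hx⟩).1) hc)
    exact (Twist.coe_smul_val (n : ℤ) x (c'.1 ⟨x, hx⟩) ((Twist.globalOf 𝒜 b).1 ⟨x, trivial⟩)).symm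
  obtain ⟨num, hnum⟩ := HomogeneousLocalization.mk_surjective (c'.1 ⟨x, hx⟩)
  rw [← hnum, HomogeneousLocalization.val_mk, Localization.mk_mul, Localization.mk_eq_mk_iff,
    Localization.r_iff_exists] at h1
  obtain ⟨w, hw⟩ := h1
  refine (Proj.mem_basicOpen _ _ _).2 fun hfx => ?_
  simp only [OneMemClass.coe_one, mul_one, one_mul] at hw
  have hmem : w.1 * (num.den.1 * (g : A)) ∈ x.asHomogeneousIdeal.toIdeal := by
    rw [← hw]
    exact Ideal.mul_mem_left _ _ (Ideal.mul_mem_left _ _ hfx)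
  exact (x.isPrime.mem_or_mem hmem).elim w.2 fun h' =>
    (x.isPrime.mem_or_mem h').elim num.den_mem hg

variable (hn : 0 < n) (h0 : Function.Surjective (algebraMap R (𝒜 0)))

variable (𝒜) in
/-- The structure morphism to `Spec R`. -/
abbrev str : Proj 𝒜 ⟶ Spec (CommRingCat.of R) :=
  Proj.toSpecZero 𝒜 ≫ Spec.map (CommRingCat.ofHom (algebraMap R (𝒜 0)))

include hn in
/-- Constants of the base. -/
theorem str_appLE (β : 𝒜 n) (r : R) :
    (str 𝒜).appLE ⊤ (Proj.basicOpen 𝒜 (β : A)) le_top ((Scheme.ΓSpecIso (CommRingCat.of R)).inv r) =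
      frac β 0 (algebraMap R A r) (by rw [zero_smul]; exact SetLike.algebraMap_mem_graded 𝒜 r) := by
  set ι := Proj.awayι 𝒜 (β : A) β.2 hn
  have hle : ⊤ ≤ ι ⁻¹ᵁ Proj.basicOpen 𝒜 (β : A) := fun x _ => (Proj.opensRange_awayι 𝒜 _ β.2 hn).le ⟨x, rfl⟩
  have hiso : IsIso (ι.appLE (Proj.basicOpen 𝒜 (β : A)) ⊤ hle) := by
    haveI : IsIso (Proj.awayToSection 𝒜 (β : A)) := by
      rw [← Proj.basicOpenIsoAway_hom 𝒜 (β : A) β.2 hn]; infer_instance
    haveI : IsIso (Proj.awayToSection 𝒜 (β : A) ≫ ι.appLE (Proj.basicOpen 𝒜 (β : A)) ⊤ hle) := by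
      rw [Groth.L16.TwistCone.awayι_appLE 𝒜 hn β.2]; infer_instance
    exact IsIso.of_isIso_comp_left (Proj.awayToSection 𝒜 (β : A)) _
  apply (ConcreteCategory.bijective_of_isIso (ι.appLE (Proj.basicOpen 𝒜 (β : A)) ⊤ hle)).1
  refine Eq.trans ?_ (congr($(Groth.L16.TwistCone.awayι_appLE 𝒜 hn β.2) _)).symm
  show ((str 𝒜).appLE ⊤ (Proj.basicOpen 𝒜 (β : A)) le_top ≫ ι.appLE _ ⊤ hle) _ = _
  rw [Scheme.Hom.appLE_comp_appLE]
  have key : ∀ (g : Spec (.of (Away 𝒜 (β : A))) ⟶ Spec (CommRingCat.of R))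
      (e : g = Spec.map (CommRingCat.ofHom (algebraMap R (𝒜 0)) ≫ CommRingCat.ofHom (fromZeroRingHom 𝒜 _))) h,
      (Scheme.ΓSpecIso (CommRingCat.of R)).inv ≫ g.appLE ⊤ ⊤ h =
        (CommRingCat.ofHom (algebraMap R (𝒜 0)) ≫ CommRingCat.ofHom (fromZeroRingHom 𝒜 _)) ≫
          (Scheme.ΓSpecIso (CommRingCat.of (Away 𝒜 (β : A)))).inv := by
    rintro g rfl h
    rw [Scheme.ΓSpecIso_inv_naturality]
    congr 1
  refine (congr($(key (ι ≫ str 𝒜) ?_ _) r)).trans ?_
  · simp only [ι, str, Proj.awayι_toSpecZero_assoc, Spec.map_comp]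
  · show (Scheme.ΓSpecIso (CommRingCat.of (Away 𝒜 (β : A)))).inv (fromZeroRingHom 𝒜 _ (algebraMap R (𝒜 0) r)) = _
    congr 1
    refine HomogeneousLocalization.val_injective _ ?_
    rw [Away.val_mk]
    show Localization.mk ((algebraMap R (𝒜 0) r : 𝒜 0) : A) 1 = _
    congr 1
    exact Subtype.ext (pow_zero _).symm

theorem frac_mul (β : 𝒜 n) (k l : ℕ) (c c' : A) (hc : c ∈ 𝒜 (k • n)) (hc' : c' ∈ 𝒜 (l • n))
    (h : c * c' ∈ 𝒜 ((k + l) • n)) : frac β (k + l) (c * c') h = frac β k c hc * frac β l c' hc' := by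
  rw [frac, frac, frac, ← map_mul]
  congr 1
  refine HomogeneousLocalization.val_injective _ ?_
  rw [HomogeneousLocalization.val_mul, Away.val_mk, Away.val_mk, Away.val_mk, Localization.mk_mul]
  congr 1
  exact Subtype.ext (pow_add _ _ _)

theorem frac_add (β : 𝒜 n) (k : ℕ) (c c' : A) (hc : c ∈ 𝒜 (k • n)) (hc' : c' ∈ 𝒜 (k • n)) :
    frac β k (c + c') (add_mem hc hc') = frac β k c hc + frac β k c' hc' := by
  rw [frac, frac, frac, ← map_add]
  congr 1
  refine HomogeneousLocalization.val_injective _ ?_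
  rw [HomogeneousLocalization.val_add, Away.val_mk, Away.val_mk, Away.val_mk, Localization.add_mk_self]

theorem frac_pow_mul (β : 𝒜 n) (e k : ℕ) (c : A) (hc : c ∈ 𝒜 (k • n)) (h : (β : A) ^ e * c ∈ 𝒜 ((e + k) • n)) :
    frac β (e + k) ((β : A) ^ e * c) h = frac β k c hc := by
  rw [frac, frac]
  congr 1
  refine HomogeneousLocalization.val_injective _ ?_
  rw [Away.val_mk, Away.val_mk, Localization.mk_eq_mk_iff, Localization.r_iff_exists]
  refine ⟨1, ?_⟩
  simp only [OneMemClass.coe_one, one_mul]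
  ring

/-- `(z / β) • (β / 1) = z / 1`. -/
theorem frac_smul_gl (β z : 𝒜 n) :
    frac β 1 (z : A) (by rw [one_smul]; exact z.2) • rs (Twist.twist 𝒜 (n : ℤ)) le_top (gl β) =
      rs (Twist.twist 𝒜 (n : ℤ)) (le_top : Proj.basicOpen 𝒜 (β : A) ≤ ⊤) (gl z) := by
  refine Groth.L18.GrM.sectN_ext (𝒜 := 𝒜) fun x => ?_
  refine Eq.trans (GrTwist.coe_smul_val _ x.1 _ _) ?_
  show Localization.mk (z : A) (⟨(β : A) ^ 1, fun h => (Proj.mem_basicOpen 𝒜 _ _).1 x.2
      (x.1.isPrime.mem_of_pow_mem _ h)⟩ : x.1.asHomogeneousIdeal.toIdeal.primeCompl) *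
    Localization.mk (β : A) (⟨1, one_notMem x.1⟩ : x.1.asHomogeneousIdeal.toIdeal.primeCompl) =
    Localization.mk (z : A) (⟨1, one_notMem x.1⟩ : x.1.asHomogeneousIdeal.toIdeal.primeCompl)
  rw [Localization.mk_mul, Localization.mk_eq_mk_iff, Localization.r_iff_exists]
  refine ⟨1, ?_⟩
  simp only [Submonoid.coe_mul, OneMemClass.coe_one, one_mul, pow_one, mul_one]
  ring

include hn h0 in
/-- The sections of degree `n` give a closed immersion into projective space. -/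
theorem exists_closedImmersion [Algebra.FiniteType R A] {ι κ : Type u} [Finite κ] (M : κ → 𝒜 n)
    (hspan : 𝒜 n ≤ Submodule.span R (Set.range fun k => (M k : A))) (b : ι → κ)
    (hcov : ∀ x : Proj 𝒜, ∃ i, (M (b i) : A) ∉ x.asHomogeneousIdeal)
    (hpow : ∀ (i : ι) (k : ℕ) (c : A), c ∈ 𝒜 (k • n) →
      ∃ e, (M (b i) : A) ^ e * c ∈ (𝒜 n) ^ (e + k)) :
    ∃ (N : ℕ) (i : Proj 𝒜 ⟶ CohB1.ProjSpaceOver N (Spec (CommRingCat.of R))), IsClosedImmersion i ∧
      i ≫ pullback.snd (CohB1.ProjSpace.toSpec N (ULift.{u} ℤ)) (specULiftZIsTerminal.from (Spec (CommRingCat.of R))) =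
        Proj.toSpecZero 𝒜 ≫ Spec.map (CommRingCat.ofHom (algebraMap R (𝒜 0))) ∧
      Nonempty (Twist.twist 𝒜 (n : ℤ) ≅
        (Scheme.Modules.pullback i).obj (Twist.twistOver N (Spec (CommRingCat.of R)) 1)) := by
  have hcov' : ∀ x : Proj 𝒜, ∃ g : 𝒜 n, (g : A) ∉ x.asHomogeneousIdeal := fun x =>
    (hcov x).elim fun i hi => ⟨_, hi⟩
  have hv : RelAmple.IsRelVeryAmplePn (str 𝒜) (Twist.twist 𝒜 (n : ℤ)) := by
    refine Groth.L18.VeryAmpleOver.exists_immersion_over (str 𝒜) (isInvertible_twist hcov') (fun k => gl (M k)) b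
      (fun i => Proj.basicOpen 𝒜 (M (b i) : A)) (fun _ => ⊤) hcov
      (fun i => Proj.isAffineOpen_basicOpen 𝒜 _ (M (b i)).2 hn) (fun _ => isAffineOpen_top _) (fun _ => le_top)
      (fun i => isFrame_globalOf _ _ le_rfl) (fun i => le_basicOpen_of_isFrame hcov' _) fun i S hc hj => ?_
    dsimp only at S hc hj ⊢
    have hconst : ∀ r : R, frac (M (b i)) 0 (algebraMap R A r) (by rw [zero_smul]; exact SetLike.algebraMap_mem_graded 𝒜 r) ∈ S :=
      fun r => str_appLE hn (M (b i)) r ▸ hc _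
    have hlin : ∀ z ∈ 𝒜 n, ∀ hz' : z ∈ 𝒜 (1 • n), frac (M (b i)) 1 z hz' ∈ S := by
      intro z hz hz'
      have key : ∃ h : z ∈ 𝒜 (1 • n), frac (M (b i)) 1 z h ∈ S := by
        have hz2 := hspan hz
        clear hz hz'
        induction hz2 using Submodule.span_induction with
        | mem y hy =>
          obtain ⟨j, rfl⟩ := hy
          exact ⟨by rw [one_smul]; exact (M j).2, hj j _ (frac_smul_gl (M (b i)) (M j))⟩
        | zero =>
          refine ⟨zero_mem _, ?_⟩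
          have : frac (M (b i)) 1 (0 : A) (zero_mem _) = 0 := by
            rw [frac, ← map_zero (Proj.awayToSection 𝒜 ((M (b i)) : A)).hom]
            congr 1
            refine HomogeneousLocalization.val_injective _ ?_
            rw [Away.val_mk, HomogeneousLocalization.val_zero, Localization.mk_zero]
          rw [this]
          exact S.zero_mem
        | add y y' _ _ hy hy' =>
          obtain ⟨h, hy⟩ := hy
          obtain ⟨h', hy'⟩ := hy'
          exact ⟨add_mem h h', by rw [frac_add (M (b i)) 1 y y' h h']; exact S.add_mem hy hy'⟩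
        | smul r y _ hy =>
          obtain ⟨h, hy⟩ := hy
          have e : frac (M (b i)) (0 + 1) (algebraMap R A r * y) (by
              rw [zero_add, ← Algebra.smul_def]; exact Submodule.smul_mem _ r h) ∈ S := by
            rw [frac_mul (M (b i)) 0 1 _ _ (by rw [zero_smul]; exact SetLike.algebraMap_mem_graded 𝒜 r) h]
            exact S.mul_mem (hconst r) hy
          refine ⟨Submodule.smul_mem _ r h, ?_⟩
          simp only [zero_add, ← Algebra.smul_def] at e
          exact e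
      exact key.elim fun _ h => h
    have hm : ∀ (m : ℕ) (c : A), c ∈ (𝒜 n) ^ m → ∃ hc : c ∈ 𝒜 (m • n), frac (M (b i)) m c hc ∈ S := by
      intro m
      induction m with
      | zero =>
        intro c hc'
        rw [pow_zero, Submodule.mem_one] at hc'
        obtain ⟨r, rfl⟩ := hc'
        exact ⟨_, hconst r⟩
      | succ m ih =>
        intro c hc'
        rw [pow_succ] at hc'
        induction hc' using Submodule.mul_induction_on' with
        | mem_mul_mem y hy z hz =>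
          obtain ⟨hy', hyS⟩ := ih y hy
          have hz' : z ∈ 𝒜 (1 • n) := by rw [one_smul]; exact hz
          have hyz : y * z ∈ 𝒜 ((m + 1) • n) := by
            rw [add_smul]; exact SetLike.mul_mem_graded hy' hz'
          exact ⟨hyz, by rw [frac_mul (M (b i)) m 1 y z hy' hz' hyz]; exact S.mul_mem hyS (hlin z hz hz')⟩
        | add y _ y' _ hy hy' =>
          obtain ⟨h, hy⟩ := hy
          obtain ⟨h', hy'⟩ := hy'
          exact ⟨add_mem h h', by rw [frac_add (M (b i)) _ y y' h h']; exact S.add_mem hy hy'⟩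
    refine eq_top_iff.2 fun a _ => ?_
    haveI : IsIso (Proj.awayToSection 𝒜 ((M (b i)) : A)) := by
      rw [← Proj.basicOpenIsoAway_hom 𝒜 ((M (b i)) : A) (M (b i)).2 hn]; infer_instance
    obtain ⟨z, rfl⟩ := (ConcreteCategory.bijective_of_isIso (Proj.awayToSection 𝒜 ((M (b i)) : A))).2 a
    obtain ⟨k, c, hck, rfl⟩ := Away.mk_surjective 𝒜 (M (b i)).2 z
    obtain ⟨e, he⟩ := hpow i k c hck
    obtain ⟨h', hS⟩ := hm _ _ he
    rwa [frac_pow_mul (M (b i)) e k c hck h'] at hS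
  obtain ⟨N, r, hr, hr2, hiso⟩ := hv
  refine ⟨N, r, ?_, hr2, hiso⟩
  haveI : IsScalarTower R (𝒜 0) A := ⟨fun r a x => smul_mul_assoc r (a : A) x⟩
  haveI : Algebra.FiniteType (𝒜 0) A := Algebra.FiniteType.of_restrictScalars_finiteType R (𝒜 0) A
  haveI : IsClosedImmersion (Spec.map (CommRingCat.ofHom (algebraMap R (𝒜 0)))) :=
    IsClosedImmersion.spec_of_surjective _ h0
  haveI : IsProper (r ≫ CohB1.ProjSpaceOver.toBase N (Spec (CommRingCat.of R))) := by
    rw [show r ≫ CohB1.ProjSpaceOver.toBase N (Spec (CommRingCat.of R)) = str 𝒜 from hr2]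
    infer_instance
  haveI : IsProper r := IsProper.of_comp r (CohB1.ProjSpaceOver.toBase N (Spec (CommRingCat.of R)))
  exact IsClosedImmersion.of_isPreimmersion r r.isClosedMap.isClosed_range

/-- Generated in positive degrees: the degree zero part is the base. -/
theorem surjective_algebraMap_zero {s : ℕ} {f : Fin s → A} {deg : Fin s → ℕ} (hdeg : ∀ i, 0 < deg i)
    (hf : ∀ i, f i ∈ 𝒜 (deg i)) (hgen : Algebra.adjoin R (Set.range f) = ⊤) :
    Function.Surjective (algebraMap R (𝒜 0)) := by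
  rintro ⟨x, hx⟩
  have h : x ∈ (1 : Submodule R A) := by
    refine Submodule.span_le.2 ?_ (mem_span_monomials hf hgen hx)
    rintro y ⟨α, hα, rfl⟩
    have h : ∀ i, α i = 0 := fun i => by
      rcases Nat.mul_eq_zero.1 ((Finset.sum_eq_zero_iff.1 hα) i (Finset.mem_univ i)) with h | h
      · exact h
      · exact absurd h (hdeg i).ne'
    simp only [h, pow_zero, Finset.prod_const_one, SetLike.mem_coe]
    exact Submodule.one_le.1 le_rfl
  obtain ⟨r, hr⟩ := Submodule.mem_one.1 h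
  exact ⟨r, Subtype.ext hr⟩

/-- The monomials of degree `n` span. -/
theorem exists_monomial_family {s : ℕ} {f : Fin s → A} {deg : Fin s → ℕ} (hdeg : ∀ i, 0 < deg i)
    (hf : ∀ i, f i ∈ 𝒜 (deg i)) (hgen : Algebra.adjoin R (Set.range f) = ⊤) (n : ℕ) :
    ∃ (κ : Type u) (_ : Finite κ) (M : κ → 𝒜 n), 𝒜 n ≤ Submodule.span R (Set.range fun k => (M k : A)) := by
  let κ₀ := {α : Fin s → Fin (n + 1) // (∑ i, (α i : ℕ) * deg i) = n}
  refine ⟨ULift.{u} κ₀, inferInstance, fun α => ⟨∏ i, f i ^ (α.down.1 i : ℕ), by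
    have h := prod_mem hf (fun i => (α.down.1 i : ℕ))
    rwa [α.down.2] at h⟩,
    fun x hx => ?_⟩
  refine Submodule.span_le.2 ?_ (mem_span_monomials hf hgen hx)
  rintro y ⟨α, hα, rfl⟩
  have hle : ∀ i, α i < n + 1 := fun i => by
    have := Finset.single_le_sum (f := fun i => α i * deg i) (fun j _ => Nat.zero_le _) (Finset.mem_univ i)
    have := Nat.le_mul_of_pos_right (α i) (hdeg i)
    simp only [hα] at *
    omega
  exact Submodule.subset_span ⟨⟨⟨fun i => ⟨α i, hle i⟩, hα⟩⟩, rfl⟩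

end Groth.L16.ZeroCyc
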