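import Mathlib.RingTheory.GradedAlgebra.Basic
import Mathlib.RingTheory.Adjoin.Basic
import Mathlib.Algebra.Group.Submonoid.Finsupp
import Mathlib.Algebra.GCDMonoid.Finset
import Mathlib.Algebra.GCDMonoid.Nat
import Mathlib.Algebra.Algebra.Operations

/-!
Graded algebras generated by finitely many homogeneous elements: splitting off a fixed degree.
-/

universe u

namespace Groth.L16.ZeroCyc

variable {R A : Type u} [CommRing R] [CommRing A] [Algebra R A] {𝒜 : ℕ → Submodule R A} [GradedAlgebra 𝒜]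
  {s : ℕ} {f : Fin s → A} {deg : Fin s → ℕ}

theorem prod_mem (hf : ∀ i, f i ∈ 𝒜 (deg i)) (α : Fin s → ℕ) :
    ∏ i, f i ^ α i ∈ 𝒜 (∑ i, α i * deg i) :=
  SetLike.prod_pow_mem_graded 𝒜 deg f α fun i _ => hf i

/-- A homogeneous element is a combination of monomials of its degree. -/
theorem mem_span_monomials (hf : ∀ i, f i ∈ 𝒜 (deg i)) (hgen : Algebra.adjoin R (Set.range f) = ⊤)
    {N : ℕ} {x : A} (hx : x ∈ 𝒜 N) :
    x ∈ Submodule.span R {y | ∃ α : Fin s → ℕ, (∑ i, α i * deg i) = N ∧ y = ∏ i, f i ^ α i} := by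
  classical
  have hall : x ∈ Subalgebra.toSubmodule (Algebra.adjoin R (Set.range f)) := by rw [hgen]; trivial
  rw [Algebra.adjoin_eq_span] at hall
  have key : Submodule.span R (Submonoid.closure (Set.range f) : Set A) ≤
      (Submodule.span R {y | ∃ α : Fin s → ℕ, (∑ i, α i * deg i) = N ∧ y = ∏ i, f i ^ α i}).comap
        (GradedAlgebra.proj 𝒜 N) := by
    rw [Submodule.span_le]
    intro y hy
    obtain ⟨α, rfl⟩ := Submonoid.exists_of_mem_closure_range (M := A) (f := f) (x := y) hy
    rw [SetLike.mem_coe, Submodule.mem_comap]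
    rw [GradedAlgebra.proj_apply]
    by_cases h : (∑ i, α i * deg i) = N
    · rw [DirectSum.decompose_of_mem_same 𝒜 (h ▸ prod_mem hf α)]
      exact Submodule.subset_span ⟨α, h, rfl⟩
    · rw [DirectSum.decompose_of_mem_ne 𝒜 (prod_mem hf α) h]
      exact zero_mem _
  have h := key hall
  rw [Submodule.mem_comap, GradedAlgebra.proj_apply, DirectSum.decompose_of_mem_same 𝒜 hx] at h
  exact h

/-- A monomial with an exponent vector dominating one of degree `n` splits. -/
theorem prod_mem_mul (hf : ∀ i, f i ∈ 𝒜 (deg i)) {N n : ℕ} (α β : Fin s → ℕ) (hle : ∀ i, β i ≤ α i)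
    (hN : (∑ i, α i * deg i) = N + n) (hn : (∑ i, β i * deg i) = n) :
    ∏ i, f i ^ α i ∈ 𝒜 N * 𝒜 n := by
  have hd : (∑ i, (α i - β i) * deg i) = N := by
    have : (∑ i, α i * deg i) = (∑ i, (α i - β i) * deg i) + ∑ i, β i * deg i := by
      rw [← Finset.sum_add_distrib]
      exact Finset.sum_congr rfl fun i _ => by rw [← add_mul, Nat.sub_add_cancel (hle i)]
    omega
  rw [show (∏ i, f i ^ α i) = (∏ i, f i ^ (α i - β i)) * ∏ i, f i ^ β i by
    rw [← Finset.prod_mul_distrib]
    exact Finset.prod_congr rfl fun i _ => by rw [← pow_add, Nat.sub_add_cancel (hle i)]]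
  exact Submodule.mul_mem_mul (hd ▸ prod_mem hf _) (hn ▸ prod_mem hf _)

/-- For `n ≥ (s-1)(l-1)` and `N ≡ n`, a power of `f t` carries `B_N` into `B_{N'} B_n`. -/
theorem pow_mul_mem (hdeg : ∀ i, 0 < deg i) (hf : ∀ i, f i ∈ 𝒜 (deg i))
    (hgen : Algebra.adjoin R (Set.range f) = ⊤) (t : Fin s) {n j : ℕ}
    (hn : (s - 1) * (Finset.univ.lcm deg - 1) ≤ n) (hj : Finset.univ.lcm deg ∣ j) {x : A}
    (hx : x ∈ 𝒜 (j + n)) : f t ^ n * x ∈ 𝒜 (n * deg t + j) * 𝒜 n := by
  classical
  set l := Finset.univ.lcm deg with hl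
  have hl0 : 0 < l := Nat.pos_of_ne_zero fun h => by
    simp only [hl, Finset.lcm_eq_zero_iff, Finset.mem_univ, true_and] at h
    obtain ⟨i, hi⟩ := h
    exact (hdeg i).ne' hi
  have hdvd : ∀ i, deg i ∣ l := fun i => Finset.dvd_lcm (Finset.mem_univ i)
  have hx' := mem_span_monomials hf hgen hx
  clear hx
  induction hx' using Submodule.span_induction with
  | mem y hy =>
    obtain ⟨α, hα, rfl⟩ := hy
    let r : Fin s → ℕ := fun i => α i % (l / deg i)
    have hr : ∀ i, r i * deg i ≤ l - 1 := fun i => by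
      have hpos : 0 < l / deg i := Nat.div_pos (Nat.le_of_dvd hl0 (hdvd i)) (hdeg i)
      have h1 : r i + 1 ≤ l / deg i := Nat.mod_lt _ hpos
      have h2 := Nat.mul_le_mul_right (deg i) h1
      rw [Nat.div_mul_cancel (hdvd i), add_mul, one_mul] at h2
      have := hdeg i
      omega
    have hmod : ∀ i, deg t ∣ α i * deg i - r i * deg i := fun i => by
      refine Dvd.dvd.trans (hdvd t) ?_
      rw [← Nat.sub_mul, show α i - r i = l / deg i * (α i / (l / deg i)) by
        have := Nat.mod_add_div (α i) (l / deg i); simp only [r]; omega,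
        mul_right_comm, Nat.div_mul_cancel (hdvd i)]
      exact Dvd.intro _ rfl
    let S := Finset.univ.erase t
    have hR : ∑ i ∈ S, r i * deg i ≤ n := by
      refine le_trans (Finset.sum_le_card_nsmul _ _ _ fun i _ => hr i) ?_
      rw [Finset.card_erase_of_mem (Finset.mem_univ t), Finset.card_univ, Fintype.card_fin, smul_eq_mul]
      exact hn
    have hsplit : (∑ i ∈ S, α i * deg i) + α t * deg t = j + n := by
      rw [← hα, Finset.sum_erase_add _ _ (Finset.mem_univ t)]
    have hdiv : deg t ∣ n - ∑ i ∈ S, r i * deg i := by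
      have hsum : deg t ∣ (∑ i ∈ S, (α i * deg i - r i * deg i)) := Finset.dvd_sum fun i _ => hmod i
      have e : (∑ i ∈ S, (α i * deg i - r i * deg i)) + ∑ i ∈ S, r i * deg i = ∑ i ∈ S, α i * deg i := by
        rw [← Finset.sum_add_distrib]
        exact Finset.sum_congr rfl fun i _ =>
          Nat.sub_add_cancel (Nat.mul_le_mul_right _ (Nat.mod_le _ _))
      have e2 : (n - ∑ i ∈ S, r i * deg i) + j =
          (∑ i ∈ S, (α i * deg i - r i * deg i)) + α t * deg t := by omega
      refine (Nat.dvd_add_iff_left ((hdvd t).trans hj)).2 ?_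
      rw [e2]
      exact dvd_add hsum (Dvd.intro_left _ rfl)
    obtain ⟨e, he⟩ := hdiv
    have hen : e ≤ n := le_trans (Nat.le_mul_of_pos_left e (hdeg t)) (he ▸ Nat.sub_le _ _)
    rw [show f t ^ n * ∏ i, f i ^ α i = ∏ i, f i ^ Function.update α t (n + α t) i by
      rw [← Finset.mul_prod_erase _ _ (Finset.mem_univ t), ← Finset.mul_prod_erase _ _ (Finset.mem_univ t),
        Function.update_self, pow_add, mul_assoc]
      refine congrArg (fun z => f t ^ n * (f t ^ α t * z)) (Finset.prod_congr rfl fun i hi => ?_)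
      rw [Function.update_of_ne (Finset.ne_of_mem_erase hi)]]
    refine prod_mem_mul hf _ (Function.update r t e) (fun i => ?_) ?_ ?_
    · rcases eq_or_ne i t with rfl | hi
      · rw [Function.update_self, Function.update_self]; omega
      · rw [Function.update_of_ne hi, Function.update_of_ne hi]; exact Nat.mod_le _ _
    · rw [← Finset.sum_erase_add _ _ (Finset.mem_univ t), Function.update_self,
        Finset.sum_congr rfl (g := fun i => α i * deg i) fun i hi => by
          rw [Function.update_of_ne (Finset.ne_of_mem_erase hi)], add_mul]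
      show (∑ i ∈ S, α i * deg i) + _ = _
      omega
    · rw [← Finset.sum_erase_add _ _ (Finset.mem_univ t), Function.update_self,
        Finset.sum_congr rfl (g := fun i => r i * deg i) fun i hi => by
          rw [Function.update_of_ne (Finset.ne_of_mem_erase hi)], mul_comm e]
      show (∑ i ∈ S, r i * deg i) + _ = _
      omega
  | zero => rw [mul_zero]; exact zero_mem _
  | add y z _ _ hy hz => rw [mul_add]; exact add_mem hy hz
  | smul c y _ hy => rw [mul_smul_comm]; exact Submodule.smul_mem _ c hy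

/-- For `a ≥ s - 1` monomials of degree `(k+1) a l` split off degree `a l`. -/
theorem mem_mul_of_mem (hdeg : ∀ i, 0 < deg i) (hf : ∀ i, f i ∈ 𝒜 (deg i))
    (hgen : Algebra.adjoin R (Set.range f) = ⊤) {a : ℕ} (ha : s - 1 ≤ a) {k : ℕ} (hk : 0 < k) {x : A}
    (hx : x ∈ 𝒜 ((k + 1) * (a * Finset.univ.lcm deg))) :
    x ∈ 𝒜 (k * (a * Finset.univ.lcm deg)) * 𝒜 (a * Finset.univ.lcm deg) := by
  classical
  set l := Finset.univ.lcm deg with hl
  have hl0 : 0 < l := Nat.pos_of_ne_zero fun h => by
    simp only [hl, Finset.lcm_eq_zero_iff, Finset.mem_univ, true_and] at h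
    obtain ⟨i, hi⟩ := h
    exact (hdeg i).ne' hi
  have hdvd : ∀ i, deg i ∣ l := fun i => Finset.dvd_lcm (Finset.mem_univ i)
  refine Submodule.span_le.2 ?_ (mem_span_monomials hf hgen hx)
  rintro y ⟨α, hα, rfl⟩
  have hpos : ∀ i, 0 < l / deg i := fun i => Nat.div_pos (Nat.le_of_dvd hl0 (hdvd i)) (hdeg i)
  let q : Fin s → ℕ := fun i => α i / (l / deg i)
  have hr : ∀ i, α i % (l / deg i) * deg i + deg i ≤ l := fun i => by
    have := Nat.mul_le_mul_right (deg i) (show α i % (l / deg i) + 1 ≤ _ from Nat.mod_lt _ (hpos i))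
    rwa [Nat.div_mul_cancel (hdvd i), add_mul, one_mul] at this
  have hsum : (∑ i, q i) * l + ∑ i, α i % (l / deg i) * deg i = (k + 1) * (a * l) := by
    rw [← hα, Finset.sum_mul, ← Finset.sum_add_distrib]
    refine Finset.sum_congr rfl fun i _ => ?_
    conv_rhs => rw [← Nat.mod_add_div (α i) (l / deg i), add_mul, mul_right_comm,
      Nat.div_mul_cancel (hdvd i), add_comm]
    simp only [q, mul_comm]
  have hqa : a ≤ ∑ i, q i := by
    rcases Nat.eq_zero_or_pos a with rfl | ha0
    · exact Nat.zero_le _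
    rcases Nat.eq_zero_or_pos s with rfl | hs
    · simp only [Finset.univ_eq_empty, Finset.sum_empty, zero_mul, zero_add] at hsum
      exact absurd hsum.symm (Nat.mul_pos k.succ_pos (Nat.mul_pos ha0 hl0)).ne'
    have h1 : (∑ i : Fin s, (α i % (l / deg i) * deg i + deg i)) ≤ s * l :=
      (Finset.sum_le_card_nsmul _ _ _ fun i _ => hr i).trans_eq (by simp)
    rw [Finset.sum_add_distrib] at h1
    have h2 : (0 : ℕ) < ∑ i : Fin s, deg i :=
      Finset.sum_pos (fun i _ => hdeg i) ⟨⟨0, hs⟩, Finset.mem_univ _⟩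
    have h3 : ((k + 1) * a) * l < (∑ i, q i + s) * l := by
      rw [mul_assoc, ← hsum, add_mul]
      omega
    have h4 := Nat.lt_of_mul_lt_mul_right h3
    have h5 : 2 * a ≤ (k + 1) * a := Nat.mul_le_mul_right a (by omega)
    omega
  obtain ⟨c, hc, hca⟩ : ∃ c : Fin s → ℕ, (∀ i, c i ≤ q i) ∧ ∑ i, c i = a := by
    clear hsum
    revert hqa
    generalize a = b
    induction b with
    | zero => exact fun _ => ⟨0, fun _ => Nat.zero_le _, by simp⟩
    | succ b ih =>
      intro hb
      obtain ⟨c, hc, hcb⟩ := ih (by omega)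
      obtain ⟨i, -, hi⟩ := Finset.exists_lt_of_sum_lt (f := c) (g := q) (s := Finset.univ) (by omega)
      refine ⟨Function.update c i (c i + 1), fun m => ?_, ?_⟩
      · rcases eq_or_ne m i with rfl | hm
        · rw [Function.update_self]; omega
        · rw [Function.update_of_ne hm]; exact hc m
      · rw [Finset.sum_update_of_mem (Finset.mem_univ i), ← hcb,
          ← Finset.add_sum_erase _ _ (Finset.mem_univ i), Finset.sdiff_singleton_eq_erase]
        omega
  refine prod_mem_mul hf α (fun i => c i * (l / deg i)) (fun i => ?_) ?_ ?_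
  · exact (Nat.mul_le_mul_right _ (hc i)).trans (Nat.div_mul_le_self _ _)
  · rw [hα]; ring
  · rw [← hca, Finset.sum_mul]
    exact Finset.sum_congr rfl fun i _ => by rw [mul_assoc, Nat.div_mul_cancel (hdvd i)]

end Groth.L16.ZeroCyc
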