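import Groth.Agent.L16.ZeroCyc.Monomial
import Groth.Agent.L16.FrameIso
import Groth.Agent.L16.ProjSpace.Ample
import Groth.Agent.L18.GrMod.TwistFrame
import Groth.Prelude.Def_ProjUP
import Groth.Prelude.Def_Twist2

/-!
`O(n)` on `Proj` of an algebra generated in several degrees: generation, ampleness, multiplication.
-/

set_option autoImplicit false
universe u

open CategoryTheory CategoryTheory.Limits MonoidalCategory AlgebraicGeometry TopologicalSpace Opposite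
open Groth.L18.Frame (rs ro rs_rs rs_self rs_smul IsFrame)
open Groth.L20.ModStalk (germ_smul germ_rs)
open Groth.L00

noncomputable section

namespace Groth.L16.ZeroCyc

variable {R A : Type u} [CommRing R] [CommRing A] [Algebra R A] {𝒜 : ℕ → Submodule R A} [GradedAlgebra 𝒜]

theorem one_notMem (x : ProjectiveSpectrum 𝒜) : (1 : A) ∉ x.asHomogeneousIdeal :=
  fun h => x.isPrime.ne_top ((Ideal.eq_top_iff_one _).mpr h)

theorem notMem_mul' {x : ProjectiveSpectrum 𝒜} {a b : A} (ha : a ∉ x.asHomogeneousIdeal)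
    (hb : b ∉ x.asHomogeneousIdeal) : a * b ∉ x.asHomogeneousIdeal :=
  fun h => (x.isPrime.mem_or_mem h).elim ha hb

theorem exists_notMem {s : ℕ} {f : Fin s → A} {deg : Fin s → ℕ} (hf : ∀ i, f i ∈ 𝒜 (deg i))
    (hgen : Algebra.adjoin R (Set.range f) = ⊤) (x : Proj 𝒜) : ∃ i, f i ∉ x.asHomogeneousIdeal := by
  have htop : (⨆ i, Proj.basicOpen 𝒜 (f i)) = ⊤ := by
    refine Proj.iSup_basicOpen_eq_top' 𝒜 f (fun i => ⟨_, hf i⟩) ?_
    rw [eq_top_iff]
    intro b hb'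
    clear hb'
    have hb : b ∈ Algebra.adjoin R (Set.range f) := hgen ▸ Algebra.mem_top
    induction hb using Algebra.adjoin_induction with
    | mem g hg => exact Algebra.subset_adjoin hg
    | algebraMap r => exact Subalgebra.algebraMap_mem _ (⟨algebraMap R A r, SetLike.algebraMap_mem_graded 𝒜 r⟩ : 𝒜 0)
    | add x y _ _ hx hy => exact add_mem hx hy
    | mul x y _ _ hx hy => exact mul_mem hx hy
  exact Opens.mem_iSup.1 (htop.ge (Opens.mem_top x))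

/-- Where `b` is invertible, `b / 1` is a frame of `O(n)`. -/
theorem isFrame_globalOf {n : ℕ} (b : 𝒜 n) (W : (Proj 𝒜).Opens) (hW : W ≤ Proj.basicOpen 𝒜 (b : A)) :
    IsFrame (Twist.twist 𝒜 (n : ℤ)) W
      (rs (Twist.twist 𝒜 (n : ℤ)) le_top (show Γ(Twist.twist 𝒜 (n : ℤ), ⊤) from Twist.globalOf 𝒜 b)) :=
  Groth.L18.GrM.isFrame_genT (n := (n : ℤ)) b (⟨1, SetLike.GradedOne.one_mem⟩ : 𝒜 0) (by simp) W
    (fun x => hW x.2) (fun x => one_notMem x.1)

/-- Sections with a frame near each point generate. -/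
theorem generatedBy_of_frames' {X : Scheme.{u}} {N : X.Modules} {ι : Type u} (s : ι → ProjUP.Γm N)
    (h : ∀ x : X, ∃ (W : X.Opens) (i : ι), x ∈ W ∧ IsFrame N W (rs N le_top (s i))) :
    ProjUP.GeneratedBy N s := fun x => by
  obtain ⟨W, i, hx, he⟩ := h x
  refine eq_top_iff.mpr fun t _ => ?_
  obtain ⟨V, hxV, m, rfl⟩ := N.presheaf.exists_germ_eq t
  have hxVW : x ∈ V ⊓ W := ⟨hxV, hx⟩
  obtain ⟨a, ha⟩ := he.exists_coeff (inf_le_right : V ⊓ W ≤ W) (rs N inf_le_left m)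
  rw [rs_rs] at ha
  rw [← germ_rs N (inf_le_left : V ⊓ W ≤ V) hxVW m, ← ha, germ_smul, germ_rs]
  exact Submodule.smul_mem _ _ (Submodule.subset_span ⟨i, rfl⟩)

/-- The germ at `x` of `w / den`, `w ∈ 𝒜 K * 𝒜 n`, is generated by the `b / 1`. -/
theorem germ_genT_mem {n K : ℕ} (x : Proj 𝒜) (den : 𝒜 K) (W : (Proj 𝒜).Opens) (hxW : x ∈ W)
    (hden : ∀ y : (W : Opens (ProjectiveSpectrum.top 𝒜)), (den : A) ∉ y.1.asHomogeneousIdeal) {w : A}
    (hw : w ∈ 𝒜 K * 𝒜 n) :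
    ∃ hw' : w ∈ 𝒜 (K + n), (Twist.twist 𝒜 (n : ℤ)).presheaf.germ W x hxW
        (show Γ(Twist.twist 𝒜 (n : ℤ), W) from
          Groth.L18.GrM.genT (n := (n : ℤ)) (⟨w, hw'⟩ : 𝒜 (K + n)) den (by push_cast; ring) W hden) ∈
      Submodule.span ((Proj 𝒜).presheaf.stalk x) (Set.range fun b : 𝒜 n =>
        ((Twist.twist 𝒜 (n : ℤ)).presheaf.germ ⊤ x trivial).hom
          (show Γ(Twist.twist 𝒜 (n : ℤ), ⊤) from Twist.globalOf 𝒜 b)) := by
  induction hw using Submodule.mul_induction_on' with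
  | mem_mul_mem y hy z hz =>
    refine ⟨SetLike.mul_mem_graded hy hz, ?_⟩
    let c : Twist.O (𝒜 := 𝒜) (op W) :=
      ⟨fun v => HomogeneousLocalization.mk ⟨K, ⟨y, hy⟩, den, hden v⟩,
        fun v => ⟨W, v.2, 𝟙 _, K, ⟨y, hy⟩, den, fun v' => hden v', fun v' => rfl⟩⟩
    have e : (show Γ(Twist.twist 𝒜 (n : ℤ), W) from
        Groth.L18.GrM.genT (n := (n : ℤ)) (⟨y * z, SetLike.mul_mem_graded hy hz⟩ : 𝒜 (K + n)) den
          (by push_cast; ring) W hden) =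
        (show Γ(Proj 𝒜, W) from c) • rs (Twist.twist 𝒜 (n : ℤ)) le_top
          (show Γ(Twist.twist 𝒜 (n : ℤ), ⊤) from Twist.globalOf 𝒜 (⟨z, hz⟩ : 𝒜 n)) := by
      refine Groth.L18.GrM.sectN_ext (𝒜 := 𝒜) fun v => ?_
      refine Eq.trans ?_ (GrTwist.coe_smul_val _ v.1 _ _).symm
      show Localization.mk (y * z) (⟨(den : A), hden v⟩ : v.1.asHomogeneousIdeal.toIdeal.primeCompl) =
        Localization.mk y (⟨(den : A), hden v⟩ : v.1.asHomogeneousIdeal.toIdeal.primeCompl) *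
          Localization.mk z (⟨(1 : A), one_notMem v.1⟩ : v.1.asHomogeneousIdeal.toIdeal.primeCompl)
      rw [Localization.mk_mul]
      congr 1
      exact Subtype.ext (mul_one _).symm
    rw [e, germ_smul, germ_rs]
    exact Submodule.smul_mem _ _ (Submodule.subset_span ⟨⟨z, hz⟩, rfl⟩)
  | add u _ v _ hu hv =>
    obtain ⟨hu', hu⟩ := hu
    obtain ⟨hv', hv⟩ := hv
    refine ⟨add_mem hu' hv', ?_⟩
    have e : (show Γ(Twist.twist 𝒜 (n : ℤ), W) from
        Groth.L18.GrM.genT (n := (n : ℤ)) (⟨u + v, add_mem hu' hv'⟩ : 𝒜 (K + n)) den (by push_cast; ring) W hden) =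
        (show Γ(Twist.twist 𝒜 (n : ℤ), W) from
          Groth.L18.GrM.genT (n := (n : ℤ)) (⟨u, hu'⟩ : 𝒜 (K + n)) den (by push_cast; ring) W hden) +
        (show Γ(Twist.twist 𝒜 (n : ℤ), W) from
          Groth.L18.GrM.genT (n := (n : ℤ)) (⟨v, hv'⟩ : 𝒜 (K + n)) den (by push_cast; ring) W hden) :=
      Groth.L18.GrM.sectN_ext (𝒜 := 𝒜) fun _ => (Localization.add_mk_self _ _ _).symm
    rw [e, map_add]
    exact add_mem hu hv

/-- `O(n)` is generated by its sections `b / 1` for `n ≥ (s - 1)(l - 1)`. -/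
theorem generatedBy_twist {s : ℕ} {f : Fin s → A} {deg : Fin s → ℕ} (hdeg : ∀ i, 0 < deg i)
    (hf : ∀ i, f i ∈ 𝒜 (deg i)) (hgen : Algebra.adjoin R (Set.range f) = ⊤) (n : ℕ)
    (hn : (s - 1) * (Finset.univ.lcm deg - 1) ≤ n) :
    ProjUP.GeneratedBy (Twist.twist 𝒜 (n : ℤ))
      (fun b : 𝒜 n => (Twist.globalOf 𝒜 b : ProjUP.Γm (Twist.twist 𝒜 (n : ℤ)))) := fun x => by
  refine eq_top_iff.mpr fun τ _ => ?_
  obtain ⟨V, hxV, m, rfl⟩ := (Twist.twist 𝒜 (n : ℤ)).presheaf.exists_germ_eq τ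
  obtain ⟨U, hxU, iU, i, j, a, b, nin, hdeg', hval⟩ :=
    (show Twist.sectN (𝒜 := 𝒜) (n : ℤ) (op V) from m).2 ⟨x, hxV⟩
  rw [← germ_rs (Twist.twist 𝒜 (n : ℤ)) iU.le hxU m]
  by_cases ha0 : (a : A) = 0
  · have hz : rs (Twist.twist 𝒜 (n : ℤ)) iU.le m = 0 :=
      Groth.L18.GrM.sectN_ext (𝒜 := 𝒜) fun v => (hval v).trans (by rw [ha0, Localization.mk_zero]; rfl)
    rw [hz, map_zero]
    exact zero_mem _
  have hij : i = j + n := by have := hdeg'.resolve_right ha0; omega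
  obtain ⟨t, ht⟩ := exists_notMem hf hgen x
  set l := Finset.univ.lcm deg with hl
  have hl0 : 0 < l := Nat.pos_of_ne_zero fun h => by
    simp only [hl, Finset.lcm_eq_zero_iff, Finset.mem_univ, true_and] at h
    obtain ⟨i', hi'⟩ := h
    exact (hdeg i').ne' hi'
  have hx' : (a : A) * (b : A) ^ (l - 1) ∈ 𝒜 (l * j + n) := by
    have e : l * j + n = i + (l - 1) * j := by
      obtain ⟨l', hl'⟩ := Nat.exists_eq_succ_of_ne_zero hl0.ne'
      rw [hl', Nat.succ_sub_one, Nat.succ_mul, hij]; omega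
    rw [e]
    exact SetLike.mul_mem_graded a.2 (by simpa using SetLike.pow_mem_graded (l - 1) b.2)
  have hw := pow_mul_mem hdeg hf hgen t hn (dvd_mul_right l j) hx'
  let den : 𝒜 (n * deg t + l * j) := ⟨f t ^ n * (b : A) ^ l,
    SetLike.mul_mem_graded (by simpa using SetLike.pow_mem_graded n (hf t))
      (by simpa using SetLike.pow_mem_graded l b.2)⟩
  let W : (Proj 𝒜).Opens := U ⊓ Proj.basicOpen 𝒜 (f t)
  have hden : ∀ y : (W : Opens (ProjectiveSpectrum.top 𝒜)), (den : A) ∉ y.1.asHomogeneousIdeal :=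
    fun y => notMem_mul' (fun h => (Proj.mem_basicOpen 𝒜 _ _).1 y.2.2 (y.1.isPrime.mem_of_pow_mem _ h))
      (fun h => nin ⟨y.1, y.2.1⟩ (y.1.isPrime.mem_of_pow_mem _ h))
  have hxW : x ∈ W := ⟨hxU, ht⟩
  obtain ⟨hw', hmem⟩ := germ_genT_mem x den W hxW hden hw
  rw [← germ_rs (Twist.twist 𝒜 (n : ℤ)) (inf_le_left : W ≤ U) hxW, rs_rs]
  convert hmem using 2
  refine Groth.L18.GrM.sectN_ext (𝒜 := 𝒜) fun y => ?_
  refine (hval ⟨y.1, y.2.1⟩).trans ?_
  show _ = Localization.mk (f t ^ n * ((a : A) * (b : A) ^ (l - 1)))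
    (⟨(den : A), hden y⟩ : y.1.asHomogeneousIdeal.toIdeal.primeCompl)
  rw [Localization.mk_eq_mk_iff, Localization.r_iff_exists]
  refine ⟨1, ?_⟩
  simp only [OneMemClass.coe_one, one_mul, den]
  obtain ⟨l', hl'⟩ := Nat.exists_eq_succ_of_ne_zero hl0.ne'
  rw [hl', Nat.succ_sub_one, pow_succ]
  ring

/-- The multiplication map where the first factor has a generator. -/
theorem mulPre_bijective_left {m n : ℤ} {i j : ℕ} (a : 𝒜 i) (b : 𝒜 j) (hm : (i : ℤ) = j + m)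
    (W : (Proj 𝒜).Opens) (ha : ∀ x : (W : Opens (ProjectiveSpectrum.top 𝒜)), a.1 ∉ x.1.asHomogeneousIdeal)
    (hb : ∀ x : (W : Opens (ProjectiveSpectrum.top 𝒜)), b.1 ∉ x.1.asHomogeneousIdeal) :
    Function.Bijective ((ProjTwist.mulPre 𝒜 m n).app (op W)) := by
  let G₁ : (ProjTwist.P 𝒜 m).obj (op W) := ProjTwist.gen a b hm W hb
  have hinv : ∀ v : (W : Opens (ProjectiveSpectrum.top 𝒜)),
      Localization.mk (a : A) (⟨(b : A), hb v⟩ : v.1.asHomogeneousIdeal.toIdeal.primeCompl) *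
        Localization.mk (b : A) (⟨(a : A), ha v⟩ : v.1.asHomogeneousIdeal.toIdeal.primeCompl) = 1 := fun v => by
    rw [Localization.mk_mul, ← Localization.mk_one, Localization.mk_eq_mk_iff, Localization.r_iff_exists]
    exact ⟨1, by simp only [Submonoid.coe_mul, OneMemClass.coe_one]; ring⟩
  have key : ∀ z : (ProjTwist.P 𝒜 m ⊗ ProjTwist.P 𝒜 n).obj (op W), ∃ g : (ProjTwist.P 𝒜 n).obj (op W),
      z = G₁ ⊗ₜ[(Proj 𝒜).sheaf.obj.obj (op W)] g := by
    intro z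
    induction z using TensorProduct.induction_on with
    | zero => exact ⟨0, (TensorProduct.tmul_zero _ _).symm⟩
    | tmul p q =>
      obtain ⟨c, hc⟩ := ProjTwist.smul_gen_surjective a b hm W ha hb p
      let c' : (Proj 𝒜).sheaf.obj.obj (op W) := c
      have hc' : p = c' • G₁ := hc.symm
      refine ⟨c' • q, ?_⟩
      let O₁ : (Proj 𝒜).sheaf.obj.obj (op W) := 1
      have e1 := TensorProduct.smul_tmul_smul (R := (Proj 𝒜).sheaf.obj.obj (op W)) c' O₁ G₁ q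
      have e2 := TensorProduct.smul_tmul_smul (R := (Proj 𝒜).sheaf.obj.obj (op W)) O₁ c' G₁ q
      rw [show O₁ • q = q from one_smul _ q, mul_one] at e1
      rw [show O₁ • G₁ = G₁ from one_smul _ G₁, one_mul] at e2
      rw [hc']
      exact e1.trans e2.symm
    | add z z' hz hz' =>
      obtain ⟨g, rfl⟩ := hz
      obtain ⟨g', rfl⟩ := hz'
      exact ⟨g + g', (TensorProduct.tmul_add _ _ _).symm⟩
  refine ⟨fun z z' e => ?_, fun y => ?_⟩
  · obtain ⟨g, rfl⟩ := key z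
    obtain ⟨g', rfl⟩ := key z'
    refine congrArg _ (ProjTwist.sectN_ext (f := ProjTwist.toS g) (g := ProjTwist.toS g') fun v => ?_)
    have h := congrArg (fun s : Twist.sectN (𝒜 := 𝒜) (m + n) (op W) => (s.1 v).1) e
    have h' : Localization.mk (a : A) (⟨(b : A), hb v⟩ : v.1.asHomogeneousIdeal.toIdeal.primeCompl) *
        ((ProjTwist.toS g).1 v).1 =
        Localization.mk (a : A) (⟨(b : A), hb v⟩ : v.1.asHomogeneousIdeal.toIdeal.primeCompl) *
        ((ProjTwist.toS g').1 v).1 := h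
    exact (IsUnit.of_mul_eq_one _ (hinv v)).mul_left_cancel h'
  · have cast : ∀ (k : ℤ), k = n → ∀ t : Twist.sectN (𝒜 := 𝒜) k (op W),
        ∃ g : Twist.sectN (𝒜 := 𝒜) n (op W), ∀ v, (g.1 v).1 = (t.1 v).1 := by
      rintro k rfl t
      exact ⟨t, fun _ => rfl⟩
    obtain ⟨g, hg⟩ := cast (-m + (m + n)) (by ring)
      (ProjTwist.mulSect (ProjTwist.gen b a (show (j : ℤ) = i + -m by omega) W ha) (ProjTwist.toS y))
    refine ⟨G₁ ⊗ₜ[(Proj 𝒜).sheaf.obj.obj (op W)] (show (ProjTwist.P 𝒜 n).obj (op W) from g), ?_⟩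
    refine ProjTwist.sectN_ext (f := ProjTwist.mulSect (ProjTwist.toS G₁) g) (g := ProjTwist.toS y) fun v => ?_
    rw [ProjTwist.mulSect_apply, hg v, ProjTwist.mulSect_apply, ← mul_assoc]
    exact (congrArg (· * _) (hinv v)).trans (one_mul _)

variable (𝒜) in
/-- `O(pd) ⊗ O(n) ≅ O(pd + n)`. -/
theorem nonempty_tensor_twist_iso_left (d : ℕ) (h : ∀ x : Proj 𝒜, ∃ f : 𝒜 d, x ∈ Proj.basicOpen 𝒜 f.1)
    (p n : ℤ) :
    Nonempty (CohB1.tensorMod (Twist.twist 𝒜 (p * d)) (Twist.twist 𝒜 n) ≅ Twist.twist 𝒜 (p * d + n)) := by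
  have key : ∀ (f : 𝒜 d) (W : (Proj 𝒜).Opens), W ≤ Proj.basicOpen 𝒜 f.1 →
      Function.Bijective ((ProjTwist.mulPre 𝒜 (p * d) n).app (op W)) := fun f W hW => by
    obtain ⟨i, j, a, b, hm, hab⟩ := ProjTwist.exists_pair f p
    exact mulPre_bijective_left a b hm W (fun x => (hab x.1 (hW x.2)).1) (fun x => (hab x.1 (hW x.2)).2)
  have hW : Tensor.Wp (ProjTwist.mulPre 𝒜 (p * d) n) := by
    rw [Tensor.Wp, (Opens.grothendieckTopology (Proj 𝒜)).W_iff_isLocallyBijective]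
    refine ⟨⟨fun {U} z z' e x hx => ?_⟩, ⟨fun {U} y x hx => ?_⟩⟩
    · obtain ⟨f, hf⟩ := h x
      refine ⟨U.unop ⊓ Proj.basicOpen 𝒜 f.1, homOfLE inf_le_left, ?_, ⟨hx, hf⟩⟩
      refine (key f _ inf_le_right).1 ?_
      change (ProjTwist.mulPre 𝒜 (p * d) n).app _ (Tensor.rs _ _ z) =
        (ProjTwist.mulPre 𝒜 (p * d) n).app _ (Tensor.rs _ _ z')
      rw [Tensor.app_rs, Tensor.app_rs]
      exact congrArg _ e
    · obtain ⟨f, hf⟩ := h x
      exact ⟨U ⊓ Proj.basicOpen 𝒜 f.1, homOfLE inf_le_left,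
        (key f _ inf_le_right).2 _, ⟨hx, hf⟩⟩
  exact ⟨@asIso _ _ _ _ ((Tensor.shf _).map (ProjTwist.mulPre 𝒜 (p * d) n))
    ((Tensor.isIso_shf_map_iff _).2 hW) ≪≫ Tensor.counitIso _⟩

end Groth.L16.ZeroCyc
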